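import Mathlib
import Groth.Agent.Lib.Helper4.Fitting18
import Groth.Agent.Lib.Helper4.Fitting15

set_option linter.unusedSectionVars false
set_option linter.style.haveILetI false

namespace Groth.Agent.Helper9.FittSplit

open Groth.Agent.Helper4.Fitting

universe u v

section LocFree

variable {R : Type u} [CommRing R]

/-- finite, `D(g)`-locally free ⇒ finitely presented -/
theorem fp_of_locFree (N : Type v) [AddCommGroup N] [Module R N] [Module.Finite R N] (r : ℕ)
    (h : ∀ (p : Ideal R) [p.IsPrime], ∃ g : R, g ∉ p ∧
      Module.Free (Localization.Away g) (LocalizedModule (Submonoid.powers g) N) ∧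
      Module.finrank (Localization.Away g) (LocalizedModule (Submonoid.powers g) N) = r) :
    Module.FinitePresentation R N := by
  let s : Set R :=
    {g | Module.Free (Localization.Away g) (LocalizedModule (Submonoid.powers g) N)}
  have hs : Ideal.span s = ⊤ := by
    by_contra hne
    obtain ⟨m, hm, hle⟩ := Ideal.exists_le_maximal _ hne
    obtain ⟨g, hg, hfree, -⟩ := h m
    exact hg (hle (Ideal.subset_span hfree))
  refine Module.FinitePresentation.of_localizationSpan s hs ?_
  rintro ⟨g, hg⟩
  haveI : Module.Free (Localization.Away g) (LocalizedModule (Submonoid.powers g) N) := hg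
  exact Module.finitePresentation_of_projective _ _

theorem projective_of_locFree (N : Type v) [AddCommGroup N] [Module R N] [Module.Finite R N]
    (r : ℕ)
    (h : ∀ (p : Ideal R) [p.IsPrime], ∃ g : R, g ∉ p ∧
      Module.Free (Localization.Away g) (LocalizedModule (Submonoid.powers g) N) ∧
      Module.finrank (Localization.Away g) (LocalizedModule (Submonoid.powers g) N) = r) :
    Module.Projective R N := by
  haveI := fp_of_locFree N r h
  apply Module.projective_of_localization_maximal
  intro I hI
  obtain ⟨g, hg, hfree, hrank⟩ := h I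
  have := free_atPrime_of_free_away r I g hg hfree hrank
  haveI := this.1
  infer_instance

theorem ideal_eq_bot_of_forall_map_eq_bot (I : Ideal R)
    (h : ∀ (p : Ideal R) [p.IsPrime], I.map (algebraMap R (Localization.AtPrime p)) = ⊥) :
    I = ⊥ := by
  rw [eq_bot_iff]
  intro d hd
  rw [Ideal.mem_bot]
  apply eq_zero_of_localization
  intro J hJ
  have h1 : algebraMap R (Localization.AtPrime J) d ∈
      I.map (algebraMap R (Localization.AtPrime J)) := Ideal.mem_map_of_mem _ hd
  rw [h J] at h1
  exact h1

theorem ideal_not_le_of_map_eq_top (I : Ideal R) (p : Ideal R) [p.IsPrime]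
    (h : I.map (algebraMap R (Localization.AtPrime p)) = ⊤) : ¬ I ≤ p := by
  intro hle
  have h1 := Ideal.map_mono (f := algebraMap R (Localization.AtPrime p)) hle
  rw [h, top_le_iff, Localization.AtPrime.map_eq_maximalIdeal] at h1
  exact (IsLocalRing.maximalIdeal.isMaximal _).ne_top h1

theorem ideal_of_basis {N : Type v} [AddCommGroup N] [Module R N] {n : ℕ}
    (b : Module.Basis (Fin n) R N) (j : ℕ) :
    (j < n → Fitt.ideal R N j = ⊥) ∧ (n ≤ j → Fitt.ideal R N j = ⊤) := by
  have hx : Submodule.span R (Set.range b) = ⊤ := b.span_eq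
  constructor
  · intro hj
    exact ideal_eq_bot_of_linearIndependent b hx b.linearIndependent j hj
  · intro hj
    exact ideal_eq_top_of_span (R := R) b hx j hj

end LocFree


section Quot

variable {R : Type u} [CommRing R] {M : Type u} [AddCommGroup M] [Module R M]

/-- If `Fit_k(M) = (f)` and `T ⊇ ker f` then `Fit_k(M/T) = ⊤`. -/
theorem ideal_quotient_eq_top [Module.Finite R M] (k : ℕ) (f : R)
    (hf : Fitt.ideal R M k = Ideal.span {f}) (T : Submodule R M)
    (hT : LinearMap.ker (f • (LinearMap.id : M →ₗ[R] M)) ≤ T) :
    Fitt.ideal R (M ⧸ T) k = ⊤ := by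
  apply eq_top_of_forall_prime_not_le
  intro p hp
  rw [not_le_iff_atPrime]
  set A := Localization.AtPrime p
  set α' : A := algebraMap R A f with hα'
  have hfit : Fitt.ideal A (LocalizedModule p.primeCompl M) k = Ideal.span {α'} := by
    rw [ideal_localizedModule, hf, Ideal.map_span, Set.image_singleton]
  obtain ⟨g₀, hg₀⟩ := quotient_span_of_ideal_eq_span_singleton (R := A)
    (M := LocalizedModule p.primeCompl M) k α' hfit
  set φ : LocalizedModule p.primeCompl M →ₗ[A] LocalizedModule p.primeCompl (M ⧸ T) :=
    LocalizedModule.map p.primeCompl (Submodule.mkQ T) with hφ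
  have hφs : Function.Surjective φ :=
    LocalizedModule.map_surjective p.primeCompl _ (Submodule.mkQ_surjective T)
  have hker : LinearMap.ker (α' • (LinearMap.id : LocalizedModule p.primeCompl M →ₗ[A] _)) ≤
      LinearMap.ker φ := by
    intro w hw
    rw [LinearMap.mem_ker] at hw ⊢
    induction w using LocalizedModule.induction_on with
    | h n s =>
      have h1 : α' • LocalizedModule.mk n s = LocalizedModule.mk (f • n) s := by
        rw [hα', algebraMap_smul, LocalizedModule.smul'_mk]
      simp only [LinearMap.smul_apply, LinearMap.id_coe, id_eq] at hw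
      rw [h1, ← LocalizedModule.zero_mk s, LocalizedModule.mk_eq] at hw
      obtain ⟨t, ht⟩ := hw
      rw [smul_zero, smul_zero] at ht
      have hmem : (t * s : R) • n ∈ T := by
        apply hT
        rw [LinearMap.mem_ker, LinearMap.smul_apply, LinearMap.id_coe, id_eq, ← ht]
        simp only [Submonoid.smul_def, smul_smul]
        congr 1
        ring
      rw [hφ, LocalizedModule.map_mk]
      have h2 : LocalizedModule.mk ((Submodule.mkQ T) n) s =
          LocalizedModule.mk ((t * s) • (Submodule.mkQ T) n) ((t * s) * s) := by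
        rw [LocalizedModule.mk_cancel_common_left]
      rw [h2]
      have h3 : (t * s) • (Submodule.mkQ T) n = 0 := by
        have : ((t * s : p.primeCompl) : R) • (Submodule.mkQ T) n = 0 := by
          rw [← map_smul, Submodule.mkQ_apply, Submodule.Quotient.mk_eq_zero]
          exact hmem
        exact this
      rw [h3, LocalizedModule.zero_mk]
  let φbar := (LinearMap.ker (α' • (LinearMap.id : LocalizedModule p.primeCompl M →ₗ[A] _))).liftQ
    φ hker
  have hφbars : Function.Surjective φbar := by
    intro y
    obtain ⟨w, rfl⟩ := hφs y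
    exact ⟨Submodule.Quotient.mk w, rfl⟩
  refine ⟨fun l => φbar (g₀ l), ?_⟩
  have : Set.range (fun l => φbar (g₀ l)) = φbar '' Set.range g₀ := by
    ext y; constructor
    · rintro ⟨l, rfl⟩; exact ⟨g₀ l, ⟨l, rfl⟩, rfl⟩
    · rintro ⟨_, ⟨l, rfl⟩, rfl⟩; exact ⟨l, rfl⟩
  rw [this, ← Submodule.map_span, hg₀, Submodule.map_top, LinearMap.range_eq_top.2 hφbars]

/-- localizing at `f` kills `ker f` -/
theorem map_mkQ_ker_bijective (f : R) :
    Function.Bijective (LocalizedModule.map (Submonoid.powers f)
      (Submodule.mkQ (LinearMap.ker (f • (LinearMap.id : M →ₗ[R] M))))) := by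
  constructor
  · rw [injective_iff_map_eq_zero]
    intro w hw
    induction w using LocalizedModule.induction_on with
    | h n s =>
      rw [LocalizedModule.map_mk, ← LocalizedModule.zero_mk s, LocalizedModule.mk_eq] at hw
      obtain ⟨t, ht⟩ := hw
      rw [smul_zero, smul_zero] at ht
      have h1 : ((t * s : Submonoid.powers f) : R) • n ∈
          LinearMap.ker (f • (LinearMap.id : M →ₗ[R] M)) := by
        rw [← Submodule.Quotient.mk_eq_zero, Submodule.Quotient.mk_smul]
        rw [← ht]
        simp only [Submonoid.smul_def, smul_smul, Submodule.mkQ_apply, Submonoid.coe_mul]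
      rw [LinearMap.mem_ker, LinearMap.smul_apply, LinearMap.id_coe, id_eq] at h1
      rw [← LocalizedModule.zero_mk s, LocalizedModule.mk_eq]
      refine ⟨⟨f, 1, pow_one f⟩ * (t * s), ?_⟩
      rw [smul_zero, smul_zero]
      have : (⟨f, 1, pow_one f⟩ * (t * s) : Submonoid.powers f) • s • n =
          s • (f • ((t * s : Submonoid.powers f) : R) • n) := by
        simp only [Submonoid.smul_def, smul_smul, Submonoid.coe_mul]
        congr 1
        ring
      rw [this, h1, smul_zero]
  · exact LocalizedModule.map_surjective _ _ (Submodule.mkQ_surjective _)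

theorem ideal_quotient_ker_eq_bot [Module.Finite R M] (f : R) (hf0 : f ∈ nonZeroDivisors R)
    (j : ℕ) (hj : Fitt.ideal R M j = ⊥) :
    Fitt.ideal R (M ⧸ LinearMap.ker (f • (LinearMap.id : M →ₗ[R] M))) j = ⊥ := by
  set T := LinearMap.ker (f • (LinearMap.id : M →ₗ[R] M)) with hT
  let e : LocalizedModule (Submonoid.powers f) M ≃ₗ[Localization (Submonoid.powers f)]
      LocalizedModule (Submonoid.powers f) (M ⧸ T) :=
    LinearEquiv.ofBijective _ (map_mkQ_ker_bijective f)
  have h1 : (Fitt.ideal R (M ⧸ T) j).map
      (algebraMap R (Localization (Submonoid.powers f))) = ⊥ := by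
    rw [← ideal_localizedModule, ← ideal_congr e, ideal_localizedModule, hj, Ideal.map_bot]
  rw [eq_bot_iff]
  intro d hd
  have h2 : algebraMap R (Localization (Submonoid.powers f)) d ∈
      (Fitt.ideal R (M ⧸ T) j).map (algebraMap R (Localization (Submonoid.powers f))) :=
    Ideal.mem_map_of_mem _ hd
  rw [h1, Ideal.mem_bot] at h2
  rw [Ideal.mem_bot]
  exact (IsLocalization.injective (Localization (Submonoid.powers f))
    (Submonoid.powers_le.2 hf0)) (h2.trans (map_zero _).symm)

end Quot

end Groth.Agent.Helper9.FittSplit
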