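import Mathlib
import Groth.Agent.Lib.Helper4.Fitting18
import Groth.Agent.Lib.Helper4.Fitting15

set_option linter.unusedSectionVars false
set_option linter.style.haveILetI false

namespace Groth.Agent.Helper9.FittSplit

open Groth.Agent.Helper4.Fitting

universe u v

section LocalRel

variable {A : Type u} [CommRing A] [IsLocalRing A] {N : Type v} [AddCommGroup N] [Module A N]

/-- Over a local ring, if `Fit_0(N) = (f)` with `f` a nonzerodivisor, then the relation module of
any generating `n`-tuple is free with a basis of `n` elements. -/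
theorem relModule_basis_of_ideal_zero {n : ℕ} (x : Fin n → N)
    (hx : Submodule.span A (Set.range x) = ⊤) (f : A) (hf0 : f ∈ nonZeroDivisors A)
    (hf : Fitt.ideal A N 0 = Ideal.span {f}) :
    Nonempty (Module.Basis (Fin n) A (relModule A x)) := by
  classical
  have hfne : f ≠ 0 := nonZeroDivisors.ne_zero hf0
  have h1 : Ideal.span (minorSet A x n) = Ideal.span {f} := by
    rw [← hf, ideal_eq_F x hx 0, F_eq_span_minorSet, Nat.sub_zero]
  obtain ⟨z, e, u, hz, hu, hdet⟩ := exists_unit_minor x n f hfne h1
  -- e is injective, hence bijective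
  have hdet_nzd : minorDet z e ∈ nonZeroDivisors A := by
    rw [hdet]
    exact mul_mem (IsUnit.mem_nonZeroDivisors hu) hf0
  have hinj : Function.Injective e := by
    by_contra hni
    have h0 := minorDet_eq_zero_of_not_injective z e hni
    rw [h0] at hdet_nzd
    exact nonZeroDivisors.ne_zero hdet_nzd rfl
  have hsurj : Function.Surjective e := Finite.injective_iff_surjective.1 hinj
  set Z : Matrix (Fin n) (Fin n) A := Matrix.of fun b a => z b (e a) with hZ
  have hZdet : Z.det = minorDet z e := (minorDet_eq z e).symm
  have hZnzd : Z.det ∈ nonZeroDivisors A := by rw [hZdet]; exact hdet_nzd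
  have hspanf : Ideal.span {f} = Ideal.span {Z.det} := by
    rw [hZdet, hdet]
    apply le_antisymm
    · rw [Ideal.span_singleton_le_iff_mem, Ideal.mem_span_singleton']
      obtain ⟨u', hu'⟩ := hu
      refine ⟨(u'⁻¹ : Aˣ), ?_⟩
      rw [← hu', ← mul_assoc, Units.inv_mul, one_mul]
    · rw [Ideal.span_singleton_le_iff_mem, Ideal.mem_span_singleton']
      exact ⟨u, rfl⟩
  -- the candidate basis
  let zz : Fin n → relModule A x := fun b => ⟨z b, (mem_relModule x (z b)).2 (hz b)⟩
  have hli : LinearIndependent A zz := by
    apply LinearIndependent.of_comp (relModule A x).subtype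
    rw [Fintype.linearIndependent_iff]
    intro c hc b
    -- c ᵥ* Z = 0
    have h2 : Matrix.vecMul c Z = 0 := by
      ext a
      have := congrFun hc (e a)
      simp only [Function.comp_apply, Submodule.subtype_apply, Finset.sum_apply, Pi.smul_apply,
        smul_eq_mul, Pi.zero_apply, zz] at this
      simp only [Matrix.vecMul, dotProduct, hZ, Matrix.of_apply, Pi.zero_apply]
      exact this
    have h3 : Matrix.vecMul c (Z * Z.adjugate) = 0 := by
      rw [← Matrix.vecMul_vecMul, h2, Matrix.zero_vecMul]
    rw [Matrix.mul_adjugate, Matrix.vecMul_smul, Matrix.vecMul_one] at h3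
    have h4 := congrFun h3 b
    simp only [Pi.smul_apply, smul_eq_mul, Pi.zero_apply] at h4
    exact hZnzd.1 _ h4
  have hspan : Submodule.span A (Set.range zz) = ⊤ := by
    rw [eq_top_iff]
    rintro ⟨r, hr⟩ -
    rw [mem_relModule] at hr
    -- Cramer coefficients
    have hmem : ∀ b, (Z.updateRow b (r ∘ e)).det ∈ Ideal.span {Z.det} := by
      intro b
      rw [← hspanf, ← h1, hZ, ← minorDet_update]
      apply Ideal.subset_span
      rw [minorSet_eq]
      refine ⟨Function.update z b r, e, ?_, rfl⟩
      intro j
      by_cases hjb : j = b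
      · subst hjb; rw [Function.update_self]; exact hr
      · rw [Function.update_of_ne hjb]; exact hz j
    choose c hc using fun b => Ideal.mem_span_singleton'.1 (hmem b)
    -- Zᵀ *ᵥ cramer Zᵀ (r ∘ e) = det Z • (r ∘ e)
    have h5 := Matrix.mulVec_cramer Z.transpose (r ∘ e)
    have h6 : Matrix.cramer Z.transpose (r ∘ e) = fun b => c b * Z.det := by
      ext b
      rw [hc b, Matrix.cramer_transpose_apply]
    rw [h6, Matrix.det_transpose] at h5
    -- conclude r = ∑ c b • z b
    have h7 : r = ∑ b, c b • z b := by
      ext i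
      obtain ⟨a, rfl⟩ := hsurj i
      have h8 := congrFun h5 a
      simp only [Matrix.mulVec, dotProduct, Matrix.transpose_apply, hZ, Matrix.of_apply,
        Pi.smul_apply, smul_eq_mul, Function.comp_apply] at h8
      have h9 : Z.det * (∑ b, c b * z b (e a)) = Z.det * r (e a) := by
        rw [← h8, Finset.mul_sum]
        apply Finset.sum_congr rfl
        intro b _
        rw [hZ]; ring
      have h10 : (∑ b, c b * z b (e a)) - r (e a) = 0 :=
        hZnzd.1 _ (by rw [mul_sub, h9, sub_self])
      rw [Finset.sum_apply]
      simp only [Pi.smul_apply, smul_eq_mul]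
      exact (sub_eq_zero.1 h10).symm
    have h11 : (⟨r, (mem_relModule x r).2 hr⟩ : relModule A x) = ∑ b, c b • zz b := by
      apply Subtype.ext
      rw [Submodule.coe_sum]
      simp only [Submodule.coe_smul, zz]
      exact h7
    rw [h11]
    exact Submodule.sum_mem _ (fun b _ => Submodule.smul_mem _ _ (Submodule.subset_span ⟨b, rfl⟩))
  exact ⟨Module.Basis.mk hli (by rw [hspan])⟩

end LocalRel

end Groth.Agent.Helper9.FittSplit
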