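import Mathlib
import Groth.Agent.Lib.Helper4.Fitting18
import Groth.Agent.Lib.Helper4.Fitting15

set_option linter.unusedSectionVars false
set_option linter.style.haveILetI false

namespace Groth.Agent.Helper9.FittSplit

open Groth.Agent.Helper4.Fitting

universe u v

section RelLoc

variable {R : Type u} [CommRing R] {N : Type v} [AddCommGroup N] [Module R N]
  (S : Submonoid R)

/-- the localized tuple -/
noncomputable def locTuple {n : ℕ} (x : Fin n → N) : Fin n → LocalizedModule S N :=
  fun i => LocalizedModule.mk (x i) 1

theorem sum_locTuple {n : ℕ} (x : Fin n → N) (z : Fin n → R) :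
    ∑ i, algebraMap R (Localization S) (z i) • locTuple S x i =
      LocalizedModule.mk (∑ i, z i • x i) 1 := by
  have h : ∀ i, algebraMap R (Localization S) (z i) • locTuple S x i =
      LocalizedModule.mkLinearMap S N (z i • x i) := by
    intro i
    rw [algebraMap_smul, locTuple, LocalizedModule.mkLinearMap_apply, LocalizedModule.smul'_mk]
  simp_rw [h]
  rw [← map_sum, LocalizedModule.mkLinearMap_apply]

/-- the comparison map from the relation module to the relation module of the localized tuple -/
noncomputable def relLoc {n : ℕ} (x : Fin n → N) :
    relModule R x →ₗ[R] relModule (Localization S) (locTuple S x) where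
  toFun z := ⟨fun i => algebraMap R (Localization S) (z.1 i), by
    rw [mem_relModule, sum_locTuple, (mem_relModule x z.1).1 z.2, LocalizedModule.zero_mk]⟩
  map_add' z w := by
    apply Subtype.ext
    ext i
    simp
  map_smul' c z := by
    apply Subtype.ext
    ext i
    simp [Algebra.smul_def]

theorem relLoc_apply {n : ℕ} (x : Fin n → N) (z : relModule R x) (i : Fin n) :
    (relLoc S x z).1 i = algebraMap R (Localization S) (z.1 i) := rfl

instance relLoc_isLocalizedModule {n : ℕ} (x : Fin n → N) :
    IsLocalizedModule S (relLoc S x) where
  map_units s := by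
    rw [Module.End.isUnit_iff]
    have hu : IsUnit (algebraMap R (Localization S) s) := IsLocalization.map_units _ s
    constructor
    · intro y y' h
      simp only [Module.algebraMap_end_apply] at h
      rw [← algebraMap_smul (Localization S) (s : R) y,
        ← algebraMap_smul (Localization S) (s : R) y'] at h
      exact hu.smul_left_cancel.1 h
    · intro y
      obtain ⟨u, hu'⟩ := hu
      refine ⟨(u⁻¹ : (Localization S)ˣ) • y, ?_⟩
      simp only [Module.algebraMap_end_apply]
      rw [← algebraMap_smul (Localization S) (s : R), ← hu', ← Units.smul_def, smul_inv_smul]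
  surj y := by
    classical
    obtain ⟨b, hb⟩ := IsLocalization.exist_integer_multiples S (Finset.univ : Finset (Fin n))
      (fun i => y.1 i)
    choose a ha using fun i => hb i (Finset.mem_univ i)
    -- the numerator tuple
    have h0 : LocalizedModule.mk (∑ i, a i • x i) (1 : S) = 0 := by
      rw [← sum_locTuple]
      have : ∀ i, algebraMap R (Localization S) (a i) • locTuple S x i =
          (b : R) • (y.1 i • locTuple S x i) := by
        intro i
        rw [ha i, smul_assoc]
      simp_rw [this]
      rw [← Finset.smul_sum, (mem_relModule _ y.1).1 y.2, smul_zero]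
    rw [← LocalizedModule.zero_mk (1 : S), LocalizedModule.mk_eq] at h0
    obtain ⟨t, ht⟩ := h0
    rw [smul_zero, one_smul] at ht
    have hz : (t : R) • a ∈ relModule R x := by
      rw [mem_relModule]
      have : ∑ i, ((t : R) • a) i • x i = t • ∑ i, a i • x i := by
        rw [Finset.smul_sum]
        apply Finset.sum_congr rfl
        intro i _
        rw [Pi.smul_apply, smul_eq_mul, mul_smul, Submonoid.smul_def]
      rw [this, ht, smul_zero]
    refine ⟨(⟨(t : R) • a, hz⟩, t * b), ?_⟩
    apply Subtype.ext
    ext i
    rw [relLoc_apply]
    simp only [Pi.smul_apply, Submonoid.smul_def, Submonoid.coe_mul,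
      smul_eq_mul, map_mul]
    rw [ha i, Algebra.smul_def]
    change ((t : R) * (b : R)) • (y.1 i) = _
    rw [Algebra.smul_def, map_mul, mul_assoc]
  exists_of_eq {z w} h := by
    classical
    have h1 : ∀ i, ∃ c : S, (c : R) * z.1 i = (c : R) * w.1 i := by
      intro i
      have := congrFun (congrArg Subtype.val h) i
      rw [relLoc_apply, relLoc_apply] at this
      exact (IsLocalization.eq_iff_exists S (Localization S)).1 this
    choose c hc using h1
    refine ⟨∏ i, c i, ?_⟩
    apply Subtype.ext
    ext i
    simp only [Submonoid.smul_def, Submodule.coe_smul, Pi.smul_apply, smul_eq_mul,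
      Submonoid.coe_finsetProd]
    rw [← Finset.mul_prod_erase Finset.univ (fun i => (c i : R)) (Finset.mem_univ i),
      mul_right_comm, hc i, mul_right_comm]

end RelLoc

end Groth.Agent.Helper9.FittSplit
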