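import Mathlib
import Groth.Agent.Lib.Helper9.FittSplit.Basic
import Groth.Agent.Lib.Helper9.FittSplit.LocalRel
import Groth.Agent.Lib.Helper9.FittSplit.RelLoc

set_option linter.unusedSectionVars false
set_option linter.style.haveILetI false

namespace Groth.Agent.Helper9.FittSplit

open Groth.Agent.Helper4.Fitting CategoryTheory

universe u v

section RelCond

variable {R : Type u} [CommRing R] {N : Type u} [AddCommGroup N] [Module R N] [Module.Finite R N]

theorem relModule_ideal_conditions {n : ℕ} (x : Fin n → N)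
    (hx : Submodule.span R (Set.range x) = ⊤) [Module.Finite R (relModule R x)]
    (f : R) (hf0 : f ∈ nonZeroDivisors R) (hf : Fitt.ideal R N 0 = Ideal.span {f}) :
    (∀ j, j < n → Fitt.ideal R (relModule R x) j = ⊥) ∧
      (∀ j, n ≤ j → Fitt.ideal R (relModule R x) j = ⊤) := by
  have key : ∀ (p : Ideal R) [p.IsPrime] (j : ℕ),
      (j < n → (Fitt.ideal R (relModule R x) j).map (algebraMap R (Localization.AtPrime p)) = ⊥) ∧
      (n ≤ j → (Fitt.ideal R (relModule R x) j).map (algebraMap R (Localization.AtPrime p)) = ⊤) := by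
    intro p _ j
    set S := p.primeCompl
    set A := Localization.AtPrime p
    have hxp : Submodule.span A (Set.range (locTuple S x)) = ⊤ := by
      apply span_mk_eq_top S 1 S.one_mem x
      intro m
      rw [hx]; trivial
    have hfp : Fitt.ideal A (LocalizedModule S N) 0 = Ideal.span {algebraMap R A f} := by
      rw [ideal_localizedModule, hf, Ideal.map_span, Set.image_singleton]
    have hfnz : algebraMap R A f ∈ nonZeroDivisors A :=
      IsLocalization.map_nonZeroDivisors_le S A (Submonoid.mem_map_of_mem _ hf0)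
    obtain ⟨b⟩ := relModule_basis_of_ideal_zero (locTuple S x) hxp _ hfnz hfp
    let e : LocalizedModule S (relModule R x) ≃ₗ[A] relModule A (locTuple S x) :=
      LinearEquiv.extendScalarsOfIsLocalization S A
        (IsLocalizedModule.linearEquiv S (LocalizedModule.mkLinearMap S _) (relLoc S x))
    have h1 : (Fitt.ideal R (relModule R x) j).map (algebraMap R A) =
        Fitt.ideal A (relModule A (locTuple S x)) j := by
      rw [← ideal_localizedModule, ideal_congr e]
    rw [h1]
    exact ideal_of_basis b j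
  constructor
  · intro j hj
    apply ideal_eq_bot_of_forall_map_eq_bot
    intro p _
    exact (key p j).1 hj
  · intro j hj
    apply eq_top_of_forall_prime_not_le
    intro p hp
    haveI := hp
    exact ideal_not_le_of_map_eq_top _ p ((key p j).2 hj)

end RelCond


section Main

variable {R : Type u} [CommRing R] (M : Type u) [AddCommGroup M] [Module R M]
  [Module.FinitePresentation R M] (k : ℕ) (f : R)

theorem ideal_lt_eq_bot (hk : k = 0 ∨ Fitt.ideal R M (k - 1) = ⊥) (j : ℕ) (hj : j < k) :
    Fitt.ideal R M j = ⊥ := by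
  rcases hk with h | h
  · omega
  · have := ideal_mono (R := R) (M := M) (show j ≤ k - 1 by omega)
    rw [h] at this
    exact le_bot_iff.1 this

theorem quot_locFree (hf0 : f ∈ nonZeroDivisors R)
    (hf : Fitt.ideal R M k = Ideal.span {f}) (hk : k = 0 ∨ Fitt.ideal R M (k - 1) = ⊥)
    (p : Ideal R) [p.IsPrime] : ∃ g : R, g ∉ p ∧
      Module.Free (Localization.Away g)
          (LocalizedModule (Submonoid.powers g) (M ⧸ LinearMap.ker (f • (LinearMap.id : M →ₗ[R] M)))) ∧
        Module.finrank (Localization.Away g)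
          (LocalizedModule (Submonoid.powers g) (M ⧸ LinearMap.ker (f • (LinearMap.id : M →ₗ[R] M)))) = k := by
  apply free_of_ideal_conditions k
  · intro j hj
    exact ideal_quotient_ker_eq_bot f hf0 j (ideal_lt_eq_bot M k hk j hj)
  · intro j hj
    have h1 := ideal_quotient_eq_top k f hf _ (le_refl _)
    have h2 := ideal_mono (R := R)
      (M := M ⧸ LinearMap.ker (f • (LinearMap.id : M →ₗ[R] M))) hj
    rw [h1, top_le_iff] at h2
    exact h2

theorem quot_projective (hf0 : f ∈ nonZeroDivisors R)
    (hf : Fitt.ideal R M k = Ideal.span {f}) (hk : k = 0 ∨ Fitt.ideal R M (k - 1) = ⊥) :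
    Module.Projective R (M ⧸ LinearMap.ker (f • (LinearMap.id : M →ₗ[R] M))) :=
  projective_of_locFree _ k (fun p _ => quot_locFree M k f hf0 hf hk p)

theorem exists_split (hf0 : f ∈ nonZeroDivisors R)
    (hf : Fitt.ideal R M k = Ideal.span {f}) (hk : k = 0 ∨ Fitt.ideal R M (k - 1) = ⊥) :
    Nonempty (M ≃ₗ[R] (M ⧸ LinearMap.ker (f • (LinearMap.id : M →ₗ[R] M))) ×
      ↥(LinearMap.ker (f • (LinearMap.id : M →ₗ[R] M)))) := by
  haveI := quot_projective M k f hf0 hf hk
  set T := LinearMap.ker (f • (LinearMap.id : M →ₗ[R] M))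
  obtain ⟨l, hl⟩ := Module.projective_lifting_property T.mkQ LinearMap.id T.mkQ_surjective
  obtain ⟨e, -, -⟩ := ((Function.Exact.split_tfae' (LinearMap.exact_subtype_mkQ T)).out 0 2 rfl rfl).mp
    ⟨T.injective_subtype, l, hl⟩
  exact ⟨e.trans (LinearEquiv.prodComm R _ _)⟩

theorem pow_torsion_iff (hf0 : f ∈ nonZeroDivisors R)
    (hf : Fitt.ideal R M k = Ideal.span {f}) (hk : k = 0 ∨ Fitt.ideal R M (k - 1) = ⊥) (x : M) :
    (∃ n : ℕ, f ^ n • x = 0) ↔ f • x = 0 := by
  constructor
  · rintro ⟨n, hn⟩
    haveI := quot_projective M k f hf0 hf hk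
    set T := LinearMap.ker (f • (LinearMap.id : M →ₗ[R] M)) with hT
    have hreg : IsSMulRegular (M ⧸ T) (f ^ n) :=
      Module.Flat.isSMulRegular_of_nonZeroDivisors (pow_mem hf0 n)
    have h3 : f ^ n • T.mkQ x = f ^ n • (0 : M ⧸ T) := by
      rw [← map_smul, hn, map_zero, smul_zero]
    have h4 := hreg h3
    have h5 : x ∈ T := by
      rw [Submodule.mkQ_apply, Submodule.Quotient.mk_eq_zero] at h4
      exact h4
    rw [hT, LinearMap.mem_ker] at h5
    exact h5
  · intro h
    exact ⟨1, by rw [pow_one]; exact h⟩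

end Main


section PD

variable {R : Type u} [CommRing R] (M : Type u) [AddCommGroup M] [Module R M]
  [Module.FinitePresentation R M] (k : ℕ) (f : R)

theorem ker_finitePresentation (hf0 : f ∈ nonZeroDivisors R)
    (hf : Fitt.ideal R M k = Ideal.span {f}) (hk : k = 0 ∨ Fitt.ideal R M (k - 1) = ⊥) :
    Module.FinitePresentation R ↥(LinearMap.ker (f • (LinearMap.id : M →ₗ[R] M))) := by
  haveI := quot_projective M k f hf0 hf hk
  set T := LinearMap.ker (f • (LinearMap.id : M →ₗ[R] M))
  exact Module.finitePresentation_of_projective_of_exact T.subtype T.mkQ T.injective_subtype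
    T.mkQ_surjective (LinearMap.exact_subtype_mkQ T)

theorem ideal_ker_zero (hf0 : f ∈ nonZeroDivisors R)
    (hf : Fitt.ideal R M k = Ideal.span {f}) (hk : k = 0 ∨ Fitt.ideal R M (k - 1) = ⊥) :
    Fitt.ideal R ↥(LinearMap.ker (f • (LinearMap.id : M →ₗ[R] M))) 0 = Ideal.span {f} := by
  obtain ⟨e⟩ := exists_split M k f hf0 hf hk
  haveI := ker_finitePresentation M k f hf0 hf hk
  set T := LinearMap.ker (f • (LinearMap.id : M →ₗ[R] M)) with hT
  have hQtop : Fitt.ideal R (M ⧸ T) k = ⊤ := ideal_quotient_eq_top k f hf _ (le_refl _)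
  have hQbot : ∀ j, j < k → Fitt.ideal R (M ⧸ T) j = ⊥ := fun j hj =>
    ideal_quotient_ker_eq_bot f hf0 j (ideal_lt_eq_bot M k hk j hj)
  rw [← hf, ideal_congr e k, ideal_prod_eq_sum_range,
    Finset.sum_eq_single_of_mem k (Finset.self_mem_range_succ k)]
  · rw [Nat.sub_self, hQtop, Ideal.top_mul]
  · intro j hj hjk
    have hjlt : j < k := by
      have := Finset.mem_range.1 hj
      omega
    rw [hQbot j hjlt, Ideal.bot_mul]
    rfl

theorem ker_hasProjectiveDimensionLT (hf0 : f ∈ nonZeroDivisors R)
    (hf : Fitt.ideal R M k = Ideal.span {f}) (hk : k = 0 ∨ Fitt.ideal R M (k - 1) = ⊥) :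
    HasProjectiveDimensionLT
      (ModuleCat.of R ↥(LinearMap.ker (f • (LinearMap.id : M →ₗ[R] M)))) 2 := by
  haveI fp := ker_finitePresentation M k f hf0 hf hk
  have h0 := ideal_ker_zero M k f hf0 hf hk
  set T := LinearMap.ker (f • (LinearMap.id : M →ₗ[R] M)) with hT
  obtain ⟨n, x, hx⟩ := Module.Finite.exists_fin (R := R) (M := T)
  let π : (Fin n → R) →ₗ[R] T := Fintype.linearCombination R x
  have hπ : Function.Surjective π := by
    rw [← LinearMap.range_eq_top, Fintype.range_linearCombination, hx]
  haveI : Module.Finite R (relModule R x) :=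
    Module.Finite.of_fg (Module.FinitePresentation.fg_ker π hπ)
  have hcond := relModule_ideal_conditions x hx f hf0 h0
  have hproj : Module.Projective R (relModule R x) :=
    projective_of_locFree _ n (fun p _ => free_of_ideal_conditions n hcond.1 hcond.2 p)
  have hS := LinearMap.shortExact_shortComplexKer hπ
  have h2 : Projective π.shortComplexKer.X₂ :=
    (IsProjective.iff_projective (R := R) (Fin n → R)).1 inferInstance
  have h1 : Projective π.shortComplexKer.X₁ :=
    (IsProjective.iff_projective (R := R) (relModule R x)).1 hproj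
  change HasProjectiveDimensionLT π.shortComplexKer.X₃ (0 + 2)
  rw [hS.hasProjectiveDimensionLT_X₃_iff 0 h2]
  infer_instance

theorem hasProjectiveDimensionLT (hf0 : f ∈ nonZeroDivisors R)
    (hf : Fitt.ideal R M k = Ideal.span {f}) (hk : k = 0 ∨ Fitt.ideal R M (k - 1) = ⊥) :
    HasProjectiveDimensionLT (ModuleCat.of R M) 2 := by
  have hT := ker_hasProjectiveDimensionLT M k f hf0 hf hk
  have hQ := quot_projective M k f hf0 hf hk
  set T := LinearMap.ker (f • (LinearMap.id : M →ₗ[R] M))
  let S : ShortComplex (ModuleCat.{u} R) :=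
    ShortComplex.mk (ModuleCat.ofHom T.subtype) (ModuleCat.ofHom T.mkQ) (by ext; simp)
  have hS : S.ShortExact :=
    { exact := (ShortComplex.ShortExact.moduleCat_exact_iff_function_exact _).mpr
        (LinearMap.exact_subtype_mkQ T)
      mono_f := (ModuleCat.mono_iff_injective _).mpr T.injective_subtype
      epi_g := (ModuleCat.epi_iff_surjective _).mpr T.mkQ_surjective }
  have h3 : Projective S.X₃ := (IsProjective.iff_projective (R := R) (M ⧸ T)).1 hQ
  have h3' : HasProjectiveDimensionLT S.X₃ 2 :=
    hasProjectiveDimensionLT_of_ge S.X₃ 1 2 (by omega)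
  exact hS.hasProjectiveDimensionLT_X₂ 2 hT h3'

end PD

end Groth.Agent.Helper9.FittSplit
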